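import Cfsg.Agent.H571.RV.Pred
import Cfsg.Agent.Lib.LocalCore

/-!
# TEAM RV, row R1: maximal `π`-subgroups of automorphism groups, own characteristic, odd order (helper537)

* `glau` : Glauberman's lemma for a chain `Q ≤ K`, `π`, `π'`, `π`;
* `OwnData p N` : the facts on the group of Lie type `N` in characteristic `p`, `2 ∉ π`, `p ∈ π`;
* `main` : a maximal `π`-subgroup `P` of `G` normalises a Hall `π`-subgroup of the normal subgroup `N`.
-/

set_option autoImplicit false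
set_option linter.unusedSectionVars false

namespace Cfsg.Agent.H537.RV

open Subgroup Cfsg Cfsg.Agent.H988.CPi Cfsg.Agent.H571.DExt Cfsg.Agent.Solvable.SZ
open scoped Pointwise

variable {π : Set ℕ} {G : Type*} [Group G]

theorem mem_norm_iff {H : Subgroup G} {g : G} : g ∈ normalizer (H : Set G) ↔ MulAut.conj g • H = H := by
  rw [mem_normalizer_iff_map_conj_eq]
  exact Iff.rfl

theorem smul_normalizer (g : G) (H : Subgroup G) :
    MulAut.conj g • normalizer (H : Set G) = normalizer ((MulAut.conj g • H : Subgroup G) : Set G) := by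
  ext x
  rw [mem_norm_iff, mem_pointwise_smul_iff_inv_smul_mem, mem_norm_iff]
  have h1 : ((MulAut.conj g)⁻¹ • x : G) = g⁻¹ * x * g := by
    rw [← map_inv]; simp [MulAut.smul_def]
  rw [h1]
  constructor
  · intro h
    rw [← mul_smul, ← map_mul]
    have h2 : x * g = g * (g⁻¹ * x * g) := by group
    rw [h2, map_mul, mul_smul, h]
  · intro h
    rw [← mul_smul, ← map_mul] at h
    have h2 : g⁻¹ * x * g = g⁻¹ * (x * g) := by group
    rw [h2, map_mul, mul_smul, h, ← mul_smul, ← map_mul, inv_mul_cancel, map_one, one_smul]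

theorem relIndex_smul (g : G) (H K : Subgroup G) :
    (MulAut.conj g • H : Subgroup G).relIndex (MulAut.conj g • K : Subgroup G) = H.relIndex K := by
  exact relIndex_map_map_of_injective H K (f := (MulAut.conj g).toMonoidHom) (MulAut.conj g).injective

theorem smul_of_normal (g : G) (N : Subgroup G) [N.Normal] : MulAut.conj g • N = N :=
  mem_norm_iff.mp (by rw [normalizer_eq_top]; trivial)

theorem smul_sup' (g : G) (H K : Subgroup G) :
    MulAut.conj g • (H ⊔ K) = MulAut.conj g • H ⊔ MulAut.conj g • K :=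
  map_sup H K _

theorem smul_inf' (g : G) (H K : Subgroup G) :
    MulAut.conj g • (H ⊓ K) = MulAut.conj g • H ⊓ MulAut.conj g • K :=
  map_inf H K _ (MulAut.conj g).injective

theorem card_smul (g : G) (H : Subgroup G) : Nat.card (MulAut.conj g • H : Subgroup G) = Nat.card H :=
  card_conj_smul g H

theorem isPGroup_smul {p : ℕ} (g : G) {H : Subgroup G} (h : IsPGroup p H) :
    IsPGroup p (MulAut.conj g • H : Subgroup G) :=
  h.map (MulAut.conj g).toMonoidHom

variable [Finite G]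

theorem glau_aux {P K Q St : Subgroup G} [Q.Normal] [K.Normal] (hQK : Q ≤ K) (hQP : Q ≤ P) (hQS : Q ≤ St)
    (hP : PiN π (Nat.card P)) (hK : PiN' π (Q.relIndex K)) (h1 : P ⊔ K = ⊤) (h2 : St ⊔ K = ⊤) :
    ∃ g : G, P ≤ MulAut.conj g • St := by
  have hQ : PiN π (Nat.card Q) := hP.of_dvd (card_dvd_of_le hQP)
  have hKi : PiN π K.index := by
    have h3 := relIndex_sup_right P K
    rw [h1, relIndex_top_right] at h3
    rw [h3]
    exact hP.of_dvd (relIndex_dvd_card K P)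
  have cG : IsCPiGroup π G := cpi_of_chain Q K hQK hQ hK hKi
  have cS : IsCPiGroup π St := by
    have n1 : (Q.subgroupOf St).Normal := inferInstance
    have n2 : (K.subgroupOf St).Normal := inferInstance
    refine cpi_of_chain (Q.subgroupOf St) (K.subgroupOf St) (fun x hx => hQK hx) ?_ ?_ ?_
    · rw [card_subgroupOf _ _ hQS]; exact hQ
    · have h3 : (Q.subgroupOf St).relIndex (K.subgroupOf St) = Q.relIndex (K ⊓ St) := by
        rw [← inf_subgroupOf_right K St, relIndex_subgroupOf inf_le_right]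
      rw [h3]
      refine PiN'.of_dvd hK ?_
      exact ⟨_, (relIndex_mul_relIndex Q (K ⊓ St) K (le_inf hQK hQS) inf_le_left).symm⟩
    · exact hKi.of_dvd (relIndex_dvd_index_of_normal K St)
  obtain ⟨L₀, hL₀⟩ := cS.1
  have hSi : PiN' π St.index := by
    have h3 := relIndex_mul_sup_index St K
    rw [h2, index_top, mul_one] at h3
    rw [← h3]
    exact PiN'.of_dvd hK (relIndex_dvd_of_le_left K hQS)
  have hPi : PiN' π P.index := by
    have h3 := relIndex_mul_sup_index P K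
    rw [h1, index_top, mul_one] at h3
    rw [← h3]
    exact PiN'.of_dvd hK (relIndex_dvd_of_le_left K hQP)
  have hL : IsPiHall π (L₀.map St.subtype) := by
    refine ⟨?_, ?_⟩
    · have : PiN π (Nat.card (L₀.map St.subtype)) := by
        rw [card_map_of_injective St.subtype_injective]; exact hL₀.1
      exact this
    · have : PiN' π (L₀.map St.subtype).index := by
        rw [index_map_subtype]
        exact PiN'.mul hL₀.2 hSi
      exact this
  obtain ⟨g, hg⟩ := cG.2 _ P hL ⟨hP, hPi⟩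
  rw [conj_eq] at hg
  exact ⟨g, hg.le.trans (smul_mono_right _ (map_subtype_le L₀))⟩

/-- **Glauberman's lemma** -/
theorem glau {P K Q St : Subgroup G} (hQK : Q ≤ K) (hQP : Q ≤ P) (hQS : Q ≤ St) (hPQ : P ≤ normalizer (Q : Set G))
    (hKQ : K ≤ normalizer (Q : Set G)) (hPK : P ≤ normalizer (K : Set G))
    (hP : PiN π (Nat.card P)) (hK : PiN' π (Q.relIndex K)) (h2 : ∀ l ∈ P ⊔ K, ∃ k ∈ K, k⁻¹ * l ∈ St) :
    ∃ g ∈ P ⊔ K, P ≤ MulAut.conj g • St := by
  set L := P ⊔ K with hL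
  have hPL : P ≤ L := le_sup_left
  have hKL : K ≤ L := le_sup_right
  have n1 : (Q.subgroupOf L).Normal :=
    (normal_subgroupOf_iff_le_normalizer (hQP.trans hPL)).mpr (sup_le hPQ hKQ)
  have n2 : (K.subgroupOf L).Normal :=
    (normal_subgroupOf_iff_le_normalizer hKL).mpr (sup_le hPK le_normalizer)
  obtain ⟨g, hg⟩ := glau_aux (π := π) (P := P.subgroupOf L) (K := K.subgroupOf L) (Q := Q.subgroupOf L)
    (St := St.subgroupOf L) (fun x hx => hQK hx) (fun x hx => hQP hx) (fun x hx => hQS hx)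
    (by rw [card_subgroupOf _ _ hPL]; exact hP)
    (by
      rw [relIndex_subgroupOf hKL]
      exact hK)
    (by rw [← subgroupOf_sup hPL hKL]; exact subgroupOf_self _)
    (by
      rw [eq_top_iff]
      intro l _
      obtain ⟨k, hk, hk'⟩ := h2 l l.2
      have h3 : l = ⟨k, hKL hk⟩ * (⟨k, hKL hk⟩⁻¹ * l) := by group
      rw [h3, sup_comm]
      exact mul_mem_sup (show (⟨k, hKL hk⟩ : L) ∈ K.subgroupOf L from hk)
        (show (⟨k, hKL hk⟩⁻¹ * l : L) ∈ St.subgroupOf L from hk'))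
  refine ⟨g, g.2, fun x hx => ?_⟩
  have h3 := hg (show (⟨x, hPL hx⟩ : L) ∈ P.subgroupOf L from hx)
  rw [mem_smul_pointwise_iff_exists] at h3 ⊢
  obtain ⟨s, hs, h4⟩ := h3
  exact ⟨s, hs, congrArg Subtype.val h4⟩

/-! ### own characteristic -/

/-- The facts on a group of Lie type in characteristic `p`. -/
structure OwnData (p : ℕ) (N : Subgroup G) : Prop where
  odd : ∀ V H : Subgroup G, IsPGroup p V → V ≤ H → H ≤ N → ¬ p ∣ V.relIndex N → Odd (Nat.card H) →
    H ≤ normalizer (V : Set G)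
  ab : ∀ V : Subgroup G, IsPGroup p V → V ≤ N → ¬ p ∣ V.relIndex N → ∀ a ∈ N ⊓ normalizer (V : Set G),
    ∀ b ∈ N ⊓ normalizer (V : Set G), a * b * a⁻¹ * b⁻¹ ∈ V
  rad : ∀ X : Subgroup G, IsPGroup p X → X ≤ N →
    (∀ D : Subgroup G, IsPGroup p D → D ≤ N ⊓ normalizer (X : Set G) →
      N ⊓ normalizer (X : Set G) ≤ normalizer (D : Set G) → D ≤ X) →
    ∀ V : Subgroup G, IsPGroup p V → V ≤ N → ¬ p ∣ V.relIndex N → X ≤ V →
      N ⊓ normalizer (V : Set G) ≤ normalizer (X : Set G)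

/-- `V` is a Sylow `p`-subgroup of `N` normalised by `Q`. -/
structure Del (p : ℕ) (N Q V : Subgroup G) : Prop where
  isP : IsPGroup p V
  le : V ≤ N
  idx : ¬ p ∣ V.relIndex N
  norm : Q ≤ normalizer (V : Set G)

variable {p : ℕ} [hp : Fact p.Prime] {N : Subgroup G}

theorem piN_of_isPGroup (hpπ : p ∈ π) {V : Subgroup G} (hV : IsPGroup p V) : PiN π (Nat.card V) := by
  obtain ⟨k, hk⟩ := IsPGroup.iff_card.mp hV
  intro r hr hrd
  rw [hk] at hrd
  rwa [(Nat.prime_dvd_prime_iff_eq hr hp.out).mp (hr.dvd_of_dvd_pow hrd)]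

/-- `p`-subgroups normalising a Sylow subgroup lie in it. -/
theorem le_of_sylow {V K : Subgroup G} (hV : IsPGroup p V) (hVN : V ≤ N) (hi : ¬ p ∣ V.relIndex N)
    (hK : IsPGroup p K) (hKN : K ≤ N) (hKV : K ≤ normalizer (V : Set G)) : K ≤ V := by
  have h1 : IsPGroup p (V ⊔ K : Subgroup G) := IsPGroup.to_sup_of_normal_left' hV hK hKV
  have h2 : V.relIndex (V ⊔ K) = 1 := by
    obtain ⟨k, hk⟩ := IsPGroup.iff_card.mp h1
    have h3 : V.relIndex (V ⊔ K) ∣ p ^ k := by
      rw [← hk, ← card_mul_index (V.subgroupOf (V ⊔ K))]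
      exact dvd_mul_left _ _
    obtain ⟨j, -, hj⟩ := (Nat.dvd_prime_pow hp.out).mp h3
    rcases Nat.eq_zero_or_pos j with h0 | h0
    · rw [hj, h0, pow_zero]
    · exfalso
      apply hi
      rw [← relIndex_mul_relIndex V (V ⊔ K) N le_sup_left (sup_le hVN hKN), hj]
      exact dvd_mul_of_dvd_left (dvd_pow_self p h0.ne') _
  exact le_sup_right.trans (relIndex_eq_one.mp h2)

theorem Del.smul [N.Normal] {Q V : Subgroup G} (h : Del p N Q V) {g : G} (hg : g ∈ normalizer (Q : Set G)) :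
    Del p N Q (MulAut.conj g • V) := by
  refine ⟨isPGroup_smul g h.isP, ?_, ?_, ?_⟩
  · rw [← smul_of_normal g N]
    exact smul_mono_right _ h.le
  · rw [← smul_of_normal g N, relIndex_smul]
    exact h.idx
  · rw [← smul_normalizer, ← mem_norm_iff.mp hg]
    exact smul_mono_right _ h.norm

theorem Del.inf_le {Q V V' : Subgroup G} (hQN : Q ≤ N) (h : Del p N Q V) (h' : Del p N Q V') : Q ⊓ V ≤ Q ⊓ V' :=
  le_inf inf_le_left (le_of_sylow h'.isP h'.le h'.idx (h.isP.to_le inf_le_right) (inf_le_left.trans hQN)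
    (inf_le_left.trans h'.norm))

theorem Del.inf_eq {Q V V' : Subgroup G} (hQN : Q ≤ N) (h : Del p N Q V) (h' : Del p N Q V') : Q ⊓ V = Q ⊓ V' :=
  le_antisymm (h.inf_le hQN h') (h'.inf_le hQN h)

/-- `|V Q| |V ∩ Q| = |V| |Q|` -/
theorem card_sup_mul {V Q : Subgroup G} (h : Q ≤ normalizer (V : Set G)) :
    Nat.card (V ⊔ Q : Subgroup G) = Nat.card V * (V.relIndex Q) := by
  set M := V ⊔ Q with hM
  have hVM : V ≤ M := le_sup_left
  have hQM : Q ≤ M := le_sup_right
  have n1 : (V.subgroupOf M).Normal := (normal_subgroupOf_iff_le_normalizer hVM).mpr (sup_le le_normalizer h)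
  have h1 : Q.subgroupOf M ⊔ V.subgroupOf M = ⊤ := by
    rw [← subgroupOf_sup hQM hVM, sup_comm]
    exact subgroupOf_self _
  have h2 := relIndex_sup_right (Q.subgroupOf M) (V.subgroupOf M)
  rw [h1, relIndex_top_right, relIndex_subgroupOf hQM] at h2
  rw [← h2, ← card_subgroupOf V M hVM, card_mul_index]

theorem relIndex_sup_eq {V Q : Subgroup G} (h : Q ≤ normalizer (V : Set G)) :
    V.relIndex (V ⊔ Q) = V.relIndex Q := by
  have h1 := card_sup_mul h
  have h2 := card_mul_index (V.subgroupOf (V ⊔ Q))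
  rw [card_subgroupOf _ _ (le_sup_left : V ≤ V ⊔ Q), h1] at h2
  exact Nat.eq_of_mul_eq_mul_left Nat.card_pos h2

/-- The situation after the reduction: `Q` lies in the Hall `π`-subgroup `H` of `N`, `V ≤ H`. -/
structure Sit (π : Set ℕ) (p : ℕ) (N Q X Q₀ : Subgroup G) : Prop where
  QN : Q ≤ N
  Qπ : PiN π (Nat.card Q)
  XQ : X ≤ Q
  Q₀Q : Q₀ ≤ Q
  sup : X ⊔ Q₀ = Q
  Q₀p : PiN {r | r ≠ p} (Nat.card Q₀)
  inf : ∀ V, Del p N Q V → Q ⊓ V = X
  rel : ∀ V, Del p N Q V → V.relIndex Q = Nat.card Q₀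
  nor : ∀ V, Del p N Q V → N ⊓ normalizer (V : Set G) ≤ normalizer (X : Set G)
  quo : PiN' π (Q.relIndex (normalizer (Q : Set G) ⊓ N))

theorem mem_normalizer_sup {X Q₀ : Subgroup G} {g : G} (h1 : g ∈ normalizer (X : Set G))
    (h2 : g ∈ normalizer (Q₀ : Set G)) : g ∈ normalizer ((X ⊔ Q₀ : Subgroup G) : Set G) := by
  rw [mem_norm_iff] at *
  rw [smul_sup', h1, h2]

/-- `V Q` is a `C_{p'}`-group -/
theorem cpi_sup {Q V : Subgroup G} (h : Del p N Q V) (hQN : Q ≤ N) :
    IsCPiGroup {r | r ≠ p} ↥(V ⊔ Q : Subgroup G) := by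
  have hVM : V ≤ V ⊔ Q := le_sup_left
  have n1 : (V.subgroupOf (V ⊔ Q)).Normal :=
    (normal_subgroupOf_iff_le_normalizer hVM).mpr (sup_le le_normalizer h.norm)
  refine cpi_of_compl (V.subgroupOf (V ⊔ Q)) ?_ ?_
  · rw [card_subgroupOf _ _ hVM]
    intro r hr hrp hrd
    obtain ⟨k, hk⟩ := IsPGroup.iff_card.mp h.isP
    rw [hk] at hrd
    exact hrp ((Nat.prime_dvd_prime_iff_eq hr hp.out).mp (hr.dvd_of_dvd_pow hrd))
  · intro r hr hrd
    show r ≠ p
    rintro rfl
    apply h.idx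
    refine dvd_trans hrd ?_
    rw [← relIndex_mul_relIndex V (V ⊔ Q) N hVM (sup_le h.le hQN)]
    exact dvd_mul_right _ _

theorem Sit.relIndex_Q₀ {Q X Q₀ : Subgroup G} (S : Sit π p N Q X Q₀) {V : Subgroup G} (h : Del p N Q V)
    {R : Subgroup G} (hR : R ≤ V ⊔ Q) (hc : Nat.card R = Nat.card Q₀) : R.relIndex (V ⊔ Q) = Nat.card V := by
  have h1 := card_sup_mul h.norm
  rw [S.rel V h] at h1
  have h2 := card_mul_index (R.subgroupOf (V ⊔ Q))
  rw [card_subgroupOf _ _ hR, h1, hc, mul_comm (Nat.card V)] at h2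
  exact Nat.eq_of_mul_eq_mul_left Nat.card_pos h2

/-- two conjugates of `Q₀` in `V Q` are conjugate in `V Q` -/
theorem Sit.conj {Q X Q₀ : Subgroup G} (S : Sit π p N Q X Q₀) {V : Subgroup G} (h : Del p N Q V) {x : G}
    (hx : MulAut.conj x • Q₀ ≤ V ⊔ Q) : ∃ g ∈ V ⊔ Q, g⁻¹ * x ∈ normalizer (Q₀ : Set G) := by
  have hpV : PiN' {r | r ≠ p} (Nat.card V) := by
    intro r hr hrp hrd
    obtain ⟨k, hk⟩ := IsPGroup.iff_card.mp h.isP
    rw [hk] at hrd
    exact hrp ((Nat.prime_dvd_prime_iff_eq hr hp.out).mp (hr.dvd_of_dvd_pow hrd))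
  have h1 : Q₀ ≤ V ⊔ Q := S.Q₀Q.trans le_sup_right
  obtain ⟨g, hg, hg'⟩ := conj_of_cpi (cpi_sup h S.QN) h1 hx S.Q₀p (by rw [S.relIndex_Q₀ h h1 rfl]; exact hpV)
    (by rw [card_smul]; exact S.Q₀p) (by rw [S.relIndex_Q₀ h hx (card_smul _ _)]; exact hpV)
  refine ⟨g, hg, ?_⟩
  rw [mem_norm_iff, map_mul, mul_smul, ← hg', ← mul_smul, ← map_mul, inv_mul_cancel, map_one, one_smul]

/-- `V Q` is a Hall `π`-subgroup of `N`. -/
theorem Sit.hall {Q X Q₀ : Subgroup G} (S : Sit π p N Q X Q₀) (O : OwnData p N) (hpπ : p ∈ π) (h2 : 2 ∉ π)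
    (hD : ∀ K ≤ N, PiN π (Nat.card K) → ∃ H ≤ N, K ≤ H ∧ PiN π (Nat.card H) ∧ PiN' π (H.relIndex N))
    {V : Subgroup G} (h : Del p N Q V) : PiN' π ((V ⊔ Q).relIndex N) := by
  have hVQ : PiN π (Nat.card (V ⊔ Q : Subgroup G)) := by
    rw [sup_comm]
    exact piN_sup h.norm S.Qπ (piN_of_isPGroup hpπ h.isP)
  obtain ⟨H, hHN, hle, hHπ, hHi⟩ := hD (V ⊔ Q) (sup_le h.le S.QN) hVQ
  have hodd : Odd (Nat.card H) := by
    rw [← Nat.not_even_iff_odd, even_iff_two_dvd]
    exact fun hh => h2 (hHπ 2 Nat.prime_two hh)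
  have hHV : H ≤ normalizer (V : Set G) := O.odd V H h.isP (le_sup_left.trans hle) hHN h.idx hodd
  have hVN : V ⊔ Q ≤ N := sup_le h.le S.QN
  have key : H ≤ V ⊔ Q := by
    intro x hx
    have h3 : MulAut.conj x • Q₀ ≤ V ⊔ Q := by
      rintro _ ⟨q, hq, rfl⟩
      have hq' : q ∈ N ⊓ normalizer (V : Set G) := ⟨S.QN (S.Q₀Q hq), h.norm (S.Q₀Q hq)⟩
      have h4 := O.ab V h.isP h.le h.idx x ⟨hHN hx, hHV hx⟩ q hq'
      have h5 : (MulAut.conj x) q = (x * q * x⁻¹ * q⁻¹) * q := by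
        rw [MulAut.conj_apply]; group
      show (MulAut.conj x) q ∈ V ⊔ Q
      rw [h5]
      exact mul_mem_sup h4 (S.Q₀Q hq)
    obtain ⟨g, hg, hg'⟩ := S.conj h h3
    have hgH : g ∈ H := hle hg
    have h6 : g⁻¹ * x ∈ H := H.mul_mem (H.inv_mem hgH) hx
    have h7 : g⁻¹ * x ∈ normalizer (X : Set G) := S.nor V h ⟨hHN h6, hHV h6⟩
    have h8 : g⁻¹ * x ∈ normalizer (Q : Set G) := by
      rw [← S.sup]
      exact mem_normalizer_sup h7 hg'
    have h9 : H ⊓ normalizer (Q : Set G) ≤ Q := by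
      rw [← relIndex_eq_one]
      have hQH : Q ≤ H ⊓ normalizer (Q : Set G) := le_inf (le_sup_right.trans hle) le_normalizer
      refine eq_one_of_both (π := π) ?_ ?_
      · refine hHπ.of_dvd ((relIndex_dvd_card _ _).trans (card_dvd_of_le inf_le_left))
      · refine PiN'.of_dvd S.quo ?_
        rw [← relIndex_mul_relIndex Q (H ⊓ normalizer (Q : Set G)) (normalizer (Q : Set G) ⊓ N) hQH
          (le_inf inf_le_right (inf_le_left.trans hHN))]
        exact dvd_mul_right _ _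
    have h10 : g⁻¹ * x ∈ V ⊔ Q := (le_sup_right : Q ≤ V ⊔ Q) (h9 ⟨h6, h8⟩)
    have h11 : x = g * (g⁻¹ * x) := by group
    rw [h11]
    exact mul_mem hg h10
  rw [← le_antisymm key hle]
  exact hHi

/-- `N_N(Q)` is transitive on the Sylow `p`-subgroups of `N` normalised by `Q`. -/
theorem Sit.trans {Q X Q₀ : Subgroup G} (S : Sit π p N Q X Q₀) (O : OwnData p N) (hpπ : p ∈ π) (h2 : 2 ∉ π)
    (hD : ∀ K ≤ N, PiN π (Nat.card K) → ∃ H ≤ N, K ≤ H ∧ PiN π (Nat.card H) ∧ PiN' π (H.relIndex N))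
    {V V' : Subgroup G} (h : Del p N Q V) (h' : Del p N Q V') :
    ∃ k ∈ normalizer (Q : Set G) ⊓ N, MulAut.conj k • V = V' := by
  set K := N ⊓ normalizer (X : Set G) with hK
  have hVK : V ≤ K := le_inf h.le ((le_inf h.le le_normalizer).trans (S.nor V h))
  have hVK' : V' ≤ K := le_inf h'.le ((le_inf h'.le le_normalizer).trans (S.nor V' h'))
  -- Sylow subgroups of `K`
  have hi : ∀ W, W ≤ K → ¬ p ∣ W.relIndex N → ¬ p ∣ (W.subgroupOf K).index := by
    intro W hWK hWi hd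
    apply hWi
    rw [← relIndex_mul_relIndex W K N hWK inf_le_left]
    exact dvd_mul_of_dvd_left hd _
  have hs : ∀ W, W ≤ K → IsPGroup p W → IsPGroup p (W.subgroupOf K) := fun W hWK hW =>
    hW.of_equiv (subgroupOfEquivOfLe hWK).symm
  obtain ⟨m, hm⟩ := MulAction.exists_smul_eq K ((hs V hVK h.isP).toSylow (hi V hVK h.idx))
    ((hs V' hVK' h'.isP).toSylow (hi V' hVK' h'.idx))
  obtain ⟨m, hmK, hm⟩ : ∃ m ∈ K, MulAut.conj m • V = V' := by
    refine conj_of_subgroupOf K V V' hVK hVK' ⟨m, ?_⟩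
    exact congrArg Sylow.toSubgroup hm
  -- `A = V Q`, `A' = V (m⁻¹ Q m)`
  set A := V ⊔ Q with hA
  set A' := V ⊔ MulAut.conj m⁻¹ • Q with hA'
  have hm' : MulAut.conj m⁻¹ • V' = V := by
    rw [← hm, ← mul_smul, ← map_mul, inv_mul_cancel, map_one, one_smul]
  have hAN : A ≤ N := sup_le h.le S.QN
  have hmN : MulAut.conj m⁻¹ • N = N := by
    have : m⁻¹ ∈ normalizer (N : Set G) := le_normalizer (N.inv_mem hmK.1)
    exact mem_norm_iff.mp this
  have e1 : A' = MulAut.conj m⁻¹ • (V' ⊔ Q) := by rw [smul_sup', hm']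
  have hA'N : A' ≤ N := by
    rw [e1, ← hmN]
    exact smul_mono_right _ (sup_le h'.le S.QN)
  have hA'π : PiN π (Nat.card A') := by
    rw [e1, card_smul, sup_comm]
    exact piN_sup h'.norm S.Qπ (piN_of_isPGroup hpπ h'.isP)
  have hAi := S.hall O hpπ h2 hD h
  have hA'V : A' ≤ normalizer (V : Set G) := by
    rw [e1, ← hm', ← smul_normalizer]
    exact smul_mono_right _ (sup_le le_normalizer h'.norm)
  have hAV : A ≤ normalizer (V : Set G) := sup_le le_normalizer h.norm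
  have hA'A : A' ≤ normalizer (A : Set G) := by
    rw [le_normalizer_iff]
    intro x hx y hy
    have h4 := O.ab V h.isP h.le h.idx x ⟨hA'N hx, hA'V hx⟩ y ⟨hAN hy, hAV hy⟩
    have h5 : x * y * x⁻¹ = (x * y * x⁻¹ * y⁻¹) * y := by group
    rw [h5]
    exact A.mul_mem ((le_sup_left : V ≤ A) h4) hy
  have hle : A' ≤ A := by
    have h3 : PiN π (Nat.card (A' ⊔ A : Subgroup G)) := by
      refine piN_sup hA'A hA'π ?_
      rw [hA, sup_comm]
      exact piN_sup h.norm S.Qπ (piN_of_isPGroup hpπ h.isP)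
    have h4 : A.relIndex (A' ⊔ A) = 1 := by
      refine eq_one_of_both (π := π) (h3.of_dvd (relIndex_dvd_card _ _)) (PiN'.of_dvd hAi ?_)
      rw [← relIndex_mul_relIndex A (A' ⊔ A) N le_sup_right (sup_le hA'N hAN)]
      exact dvd_mul_right _ _
    exact le_sup_left.trans (relIndex_eq_one.mp h4)
  obtain ⟨v, hv, hv'⟩ := S.conj h (x := m⁻¹) ((smul_mono_right _ S.Q₀Q).trans (le_sup_right.trans hle))
  -- `v⁻¹ m⁻¹ ∈ N(Q₀)`
  refine ⟨m * v, ?_, ?_⟩
  · have h3 : m * v = (v⁻¹ * m⁻¹)⁻¹ := by group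
    have h4 : m * v ∈ normalizer (Q₀ : Set G) := by
      rw [h3]
      exact inv_mem hv'
    have hvK : v ∈ K := ⟨hAN hv, S.nor V h ⟨hAN hv, hAV hv⟩⟩
    have h5 : m * v ∈ K := mul_mem hmK hvK
    refine ⟨?_, h5.1⟩
    rw [← S.sup]
    exact mem_normalizer_sup h5.2 h4
  · rw [map_mul, mul_smul, mem_norm_iff.mp (hAV hv), hm]

/-- a maximal `π`-subgroup `P`, `Q = P ∩ N` -/
theorem exists_sit [N.Normal] (O : OwnData p N) (hpπ : p ∈ π) (h2 : 2 ∉ π) {P : Subgroup G}
    (hP : Maximal (IsPiSubgroup π) P) {V₀ : Subgroup G} (h₀ : Del p N (P ⊓ N) V₀) :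
    ∃ X Q₀, Sit π p N (P ⊓ N) X Q₀ := by
  have hPπ : PiN π (Nat.card P) := hP.1
  set Q := P ⊓ N with hQ
  have hQN : Q ≤ N := inf_le_right
  have hQP : Q ≤ P := inf_le_left
  have hQπ : PiN π (Nat.card Q) := hPπ.of_dvd (card_dvd_of_le hQP)
  have hPQ : P ≤ normalizer (Q : Set G) := by
    intro x hx
    rw [mem_norm_iff, hQ, smul_inf', smul_of_normal x N, mem_norm_iff.mp (le_normalizer hx)]
  set X := Q ⊓ V₀ with hX
  have hXp : IsPGroup p X := h₀.isP.to_le inf_le_right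
  have hinf : ∀ V, Del p N Q V → Q ⊓ V = X := fun V h => h.inf_eq hQN h₀
  have hPX : P ≤ normalizer (X : Set G) := by
    intro x hx
    rw [mem_norm_iff, hX, smul_inf', mem_norm_iff.mp (hPQ hx)]
    exact hinf _ (h₀.smul (hPQ hx))
  have hrad : ∀ D : Subgroup G, IsPGroup p D → D ≤ N ⊓ normalizer (X : Set G) →
      N ⊓ normalizer (X : Set G) ≤ normalizer (D : Set G) → D ≤ X := by
    intro D hD hDK hKD
    set K := N ⊓ normalizer (X : Set G) with hK
    set E := (pCore p K).map K.subtype with hE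
    have hDE : D ≤ E := Lib.LocalCore.le_map_pCore hDK hD hKD
    have hEp : IsPGroup p E := Lib.LocalCore.isPGroup_map_pCore p K
    have hEK : E ≤ K := map_subtype_le _
    have hPK : P ≤ normalizer (K : Set G) := by
      intro x hx
      rw [mem_norm_iff, hK, smul_inf', smul_of_normal, smul_normalizer, mem_norm_iff.mp (hPX hx)]
    have hKE : K ≤ normalizer (E : Set G) := Lib.LocalCore.le_normalizer_map_pCore p K
    have hle : ∀ x ∈ P, MulAut.conj x • E ≤ E := by
      intro x hx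
      refine Lib.LocalCore.le_map_pCore ?_ (isPGroup_smul x hEp) ?_
      · rw [← mem_norm_iff.mp (hPK hx)]
        exact smul_mono_right _ hEK
      · rw [← smul_normalizer]
        conv_lhs => rw [← mem_norm_iff.mp (hPK hx)]
        exact smul_mono_right _ hKE
    have hPE : P ≤ normalizer (E : Set G) := by
      intro x hx
      rw [mem_norm_iff]
      exact eq_of_le_of_card_ge (hle x hx) (by rw [card_smul])
    have hEP : E ≤ P := le_of_maximal hP hPE (piN_of_isPGroup hpπ hEp)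
    have hEQ : E ≤ Q := le_inf hEP (hEK.trans inf_le_left)
    exact hDE.trans (le_inf hEQ (le_of_sylow h₀.isP h₀.le h₀.idx hEp (hEQ.trans hQN) (hEQ.trans h₀.norm)))
  -- the complement
  have hXQ : X ≤ Q := inf_le_left
  have n1 : (X.subgroupOf Q).Normal :=
    (normal_subgroupOf_iff_le_normalizer hXQ).mpr (hQP.trans hPX)
  have hp' : PiN' {r | r ≠ p} (Nat.card X) := by
    intro r hr hrp hrd
    obtain ⟨k, hk⟩ := IsPGroup.iff_card.mp hXp
    rw [hk] at hrd
    exact hrp ((Nat.prime_dvd_prime_iff_eq hr hp.out).mp (hr.dvd_of_dvd_pow hrd))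
  have hXi : X.relIndex Q = V₀.relIndex Q := by
    rw [hX, inf_comm, inf_relIndex_right]
  have hXi' : PiN {r | r ≠ p} (X.relIndex Q) := by
    intro r hr hrd
    show r ≠ p
    rintro rfl
    apply h₀.idx
    rw [hXi, ← relIndex_sup_eq h₀.norm] at hrd
    refine dvd_trans hrd ?_
    rw [← relIndex_mul_relIndex V₀ (V₀ ⊔ Q) N le_sup_left (sup_le h₀.le hQN)]
    exact dvd_mul_right _ _
  obtain ⟨L₀, hL₀⟩ := (cpi_of_compl (π := {r | r ≠ p}) (X.subgroupOf Q)
    (by rw [card_subgroupOf _ _ hXQ]; exact hp') hXi').1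
  have hL₀c : Nat.card L₀ = X.relIndex Q := by
    refine mul_unique hL₀.1 hL₀.2 hXi' hp' ?_
    rw [card_mul_index, mul_comm, ← card_subgroupOf X Q hXQ]
    exact (card_mul_index (X.subgroupOf Q)).symm
  set Q₀ := L₀.map Q.subtype with hQ₀
  have hQ₀c : Nat.card Q₀ = X.relIndex Q := by
    rw [hQ₀, card_map_of_injective Q.subtype_injective, hL₀c]
  have hQ₀Q : Q₀ ≤ Q := map_subtype_le _
  refine ⟨X, Q₀, ⟨hQN, hQπ, hXQ, hQ₀Q, ?_, ?_, hinf, ?_, ?_, ?_⟩⟩
  · have h3 : (X ⊔ Q₀).relIndex Q = 1 := by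
      refine eq_one_of_both (π := {r | r ≠ p}) ?_ ?_
      · refine hXi'.of_dvd ?_
        rw [← relIndex_mul_relIndex X (X ⊔ Q₀) Q le_sup_left (sup_le hXQ hQ₀Q)]
        exact dvd_mul_left _ _
      · have h4 : PiN' {r | r ≠ p} (Q₀.relIndex Q) := by
          have h5 : Q₀.subgroupOf Q = L₀ := by
            rw [hQ₀]
            exact comap_map_eq_self_of_injective Q.subtype_injective L₀
          show PiN' _ (Q₀.subgroupOf Q).index
          rw [h5]
          exact hL₀.2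
        refine PiN'.of_dvd h4 ?_
        rw [← relIndex_mul_relIndex Q₀ (X ⊔ Q₀) Q le_sup_right (sup_le hXQ hQ₀Q)]
        exact dvd_mul_left _ _
    exact le_antisymm (sup_le hXQ hQ₀Q) (relIndex_eq_one.mp h3)
  · rw [hQ₀c]; exact hXi'
  · intro V h
    rw [hQ₀c, ← hinf V h, inf_comm, inf_relIndex_right]
  · intro V h
    exact O.rad X hXp (hXQ.trans hQN) hrad V h.isP h.le h.idx (by rw [← hinf V h]; exact inf_le_right)
  · have hodd : Odd (Nat.card P) := by
      rw [← Nat.not_even_iff_odd, even_iff_two_dvd]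
      exact fun hh => h2 (hPπ 2 Nat.prime_two hh)
    have hsol : Group.IsSolvable P := Cfsg.Agent.S0205.result hodd
    have hsol' : Group.IsSolvable (P.map (QuotientGroup.mk' N)) :=
      Group.isSolvable_of_surjective ((QuotientGroup.mk' N).subgroupMap_surjective P)
    exact piN'_normalizer_quot N hP hsol'

/-- **A maximal `π`-subgroup of `G` normalises a Hall `π`-subgroup of `N`.** -/
theorem main [N.Normal] (O : OwnData p N) (hpπ : p ∈ π) (h2 : 2 ∉ π)
    (hD : ∀ K ≤ N, PiN π (Nat.card K) → ∃ H ≤ N, K ≤ H ∧ PiN π (Nat.card H) ∧ PiN' π (H.relIndex N))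
    {P : Subgroup G} (hP : Maximal (IsPiSubgroup π) P) :
    ∃ H ≤ N, PiN π (Nat.card H) ∧ PiN' π (H.relIndex N) ∧ P ≤ normalizer (H : Set G) := by
  have hPπ : PiN π (Nat.card P) := hP.1
  have hQπ : PiN π (Nat.card (P ⊓ N : Subgroup G)) := hPπ.of_dvd (card_dvd_of_le inf_le_left)
  -- a Sylow `p`-subgroup normalised by `Q`
  obtain ⟨V₀, h₀⟩ : ∃ V₀, Del p N (P ⊓ N) V₀ := by
    obtain ⟨H, hHN, hle, hHπ, hHi⟩ := hD _ inf_le_right hQπ
    have hodd : Odd (Nat.card H) := by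
      rw [← Nat.not_even_iff_odd, even_iff_two_dvd]
      exact fun hh => h2 (hHπ 2 Nat.prime_two hh)
    obtain ⟨S⟩ : Nonempty (Sylow p H) := inferInstance
    have h3 : (S : Subgroup H).map H.subtype ≤ H := map_subtype_le _
    have h4 : IsPGroup p ((S : Subgroup H).map H.subtype) := S.isPGroup'.map _
    have h5 : ((S : Subgroup H).map H.subtype).relIndex H = (S : Subgroup H).index := by
      show (((S : Subgroup H).map H.subtype).subgroupOf H).index = _
      congr 1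
      exact comap_map_eq_self_of_injective H.subtype_injective (S : Subgroup H)
    have h6 : ¬ p ∣ ((S : Subgroup H).map H.subtype).relIndex N := by
      rw [← relIndex_mul_relIndex _ H N h3 hHN, h5]
      intro hd
      rcases hp.out.dvd_mul.mp hd with hd | hd
      · exact S.not_dvd_index hd
      · exact hHi p hp.out hpπ hd
    exact ⟨_, h4, h3.trans hHN, h6, hle.trans (O.odd _ H h4 h3 hHN h6 hodd)⟩
  obtain ⟨X, Q₀, S⟩ := exists_sit O hpπ h2 hP h₀
  set Q := P ⊓ N with hQ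
  have hQN : Q ≤ N := inf_le_right
  have hQP : Q ≤ P := inf_le_left
  have hPQ : P ≤ normalizer (Q : Set G) := by
    intro x hx
    rw [mem_norm_iff, hQ, smul_inf', smul_of_normal x N, mem_norm_iff.mp (le_normalizer hx)]
  have hPK : P ≤ normalizer ((normalizer (Q : Set G) ⊓ N : Subgroup G) : Set G) := by
    intro x hx
    rw [mem_norm_iff, smul_inf', smul_of_normal x N, smul_normalizer, mem_norm_iff.mp (hPQ hx)]
  obtain ⟨g, hg, hg'⟩ := glau (π := π) (P := P) (K := normalizer (Q : Set G) ⊓ N) (Q := Q)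
    (St := normalizer (V₀ : Set G)) (le_inf le_normalizer hQN) hQP h₀.norm hPQ inf_le_left hPK hPπ S.quo (by
      intro l hl
      have hl' : l ∈ normalizer (Q : Set G) := (sup_le hPQ inf_le_left) hl
      obtain ⟨k, hk, hk'⟩ := S.trans O hpπ h2 hD h₀ (h₀.smul hl')
      refine ⟨k, hk, ?_⟩
      rw [mem_norm_iff, map_mul, mul_smul, ← hk', ← mul_smul, ← map_mul, inv_mul_cancel, map_one, one_smul])
  have hgQ : g ∈ normalizer (Q : Set G) := (sup_le hPQ inf_le_left) hg
  have h' := h₀.smul hgQ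
  rw [smul_normalizer] at hg'
  set V := MulAut.conj g • V₀ with hV
  refine ⟨V ⊔ Q, sup_le h'.le hQN, ?_, S.hall O hpπ h2 hD h', ?_⟩
  · rw [sup_comm]
    exact piN_sup h'.norm S.Qπ (piN_of_isPGroup hpπ h'.isP)
  · intro x hx
    exact mem_normalizer_sup (hg' hx) (hPQ hx)

end Cfsg.Agent.H537.RV
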