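import Cfsg.Agent.KFacts.RgdLieCharP

/-!
# TEAM RV, row R1: weak closure of the unipotent radicals (helper537)

* `mem_PJ_of_cj_le` : `g V_J g⁻¹ ≤ U` implies `g ∈ P_J`;
* `BTW p G` : Borel–Tits with weakly closed radicals; `btw_of_hasFilt`, `btw_of_ti`.
-/

set_option autoImplicit false
set_option linter.unusedSectionVars false

namespace Cfsg.Agent.H537.RV

open CoxeterSystem Cfsg.Agent.ChevalleyStructure.CoxeterGeom Cfsg.Agent.Tits.Roots Cfsg.Agent.Tits.Core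
  Cfsg.Agent.Tits.RootComb Cfsg.Agent.Tits.Exchange Cfsg.Agent.Nodes.Reps Cfsg.Agent.Nodes.BNOf
  Cfsg.Agent.Nodes.StabComb Cfsg.Agent.Nodes.Bruhat Cfsg.Agent.Nodes.OppDec Cfsg.Agent.Nodes.LeviDec
  Cfsg.Agent.KFacts.RgdVJ
open Cfsg.Agent.Nodes.NormX (normalizer_cj)

variable {I W Y : Type*} [Fintype I] [DecidableEq I] [Group W] [Group Y] {M : CoxeterMatrix I}
  {cs : CoxeterSystem M W} {A : I → I → ℤ} {h : IsCartan M A} {p : ℕ} {T : Subgroup Y} {n : I → Y}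
  {X : (I → ℤ) → Subgroup Y}

theorem mem_WJ_of_NotJ [Finite W] {J : Set I} : ∀ {w : W}, (∀ x ∈ NotJ cs h J, 0 ≤ rep cs h w x) → w ∈ WJ cs J := by
  intro w
  induction hn : cs.length w using Nat.strong_induction_on generalizing w with
  | _ N ih =>
  intro hw
  by_cases hw1 : w = 1
  · rw [hw1]; exact one_mem _
  obtain ⟨i, hi⟩ := cs.exists_rightDescent_of_ne_one hw1
  have hi' : cs.length (w * cs.simple i) < cs.length w := hi
  have hneg : rep cs h w (sr i) ≤ 0 := nonpos_of_lt cs h w i hi'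
  have hiJ : i ∈ J := by
    by_contra hiJ
    have h1 := hw (sr i) (sr_mem_NotJ hiJ)
    have h2 : rep cs h w (sr i) = 0 := le_antisymm hneg h1
    exact ((isRoot_sr cs h i).act w).ne_zero h2
  have h3 := ih (cs.length (w * cs.simple i)) (by omega) rfl (by
    intro x hx
    rw [rep_mul_apply]
    exact hw _ (NotJ.act (simple_mem_WJ cs hiJ) hx))
  have h8 : w = w * cs.simple i * cs.simple i := by rw [mul_assoc, simple_mul_simple_self, mul_one]
  rw [h8]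
  exact mul_mem h3 (simple_mem_WJ cs hiJ)

/-- **Weak closure of the unipotent radicals.** -/
theorem mem_PJ_of_cj_le (R : RGD cs h p T n X) [Finite W] {J : Set I} {g : Y} (hg : g ∈ GG cs h T X)
    (hle : cj g (VJ cs h X J) ≤ RGD.Sup X (RGD.Pos cs h)) : g ∈ PJ cs h T X J := by
  obtain ⟨w, hw⟩ := (mem_GG R).1 hg
  obtain ⟨b₁, hb₁, k, hk, b₂, hb₂, rfl⟩ := hw
  rw [cell_mem_PJ_iff R ⟨b₁, hb₁, k, hk, b₂, hb₂, rfl⟩]
  refine mem_WJ_of_NotJ (h := h) fun x hx => ?_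
  by_contra hneg
  have hroot : IsRoot cs h (rep cs h w x) := hx.1.act w
  have hneg' : rep cs h w x ≤ 0 := (hroot.pos_or_neg).resolve_left hneg
  apply X_ne_bot R hx.1
  rw [Subgroup.eq_bot_iff_forall]
  intro v hv
  have hvV : v ∈ VJ cs h X J := RGD.le_Sup hx hv
  have h1 : b₂⁻¹ * v * b₂ ∈ VJ cs h X J := by
    have h2 : b₂⁻¹ ∈ Subgroup.normalizer (VJ cs h X J : Set Y) :=
      PJ_le_normalizer_VJ R J (B_le_PJ (inv_mem hb₂))
    have := (Subgroup.mem_normalizer_iff.1 h2 v).1 hvV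
    rwa [inv_inv] at this
  have h2 : (b₁ * k * b₂) * (b₂⁻¹ * v * b₂) * (b₁ * k * b₂)⁻¹ ∈ RGD.Sup X (RGD.Pos cs h) :=
    hle (conj_mem_cj.2 h1)
  have h3 : k * v * k⁻¹ ∈ RGD.Sup X (RGD.Pos cs h) := by
    have h4 := (Subgroup.mem_normalizer_iff.1 (R.B_le_normalizer_U (inv_mem hb₁)) _).1 h2
    have h5 : b₁⁻¹ * ((b₁ * k * b₂) * (b₂⁻¹ * v * b₂) * (b₁ * k * b₂)⁻¹) * b₁⁻¹⁻¹ = k * v * k⁻¹ := by group
    rwa [h5] at h4
  have h4 : k * v * k⁻¹ ∈ UN cs h X := RGD.le_Sup (S := Neg cs h) (show rep cs h w x ∈ Neg cs h from ⟨hroot, hneg'⟩)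
    (R.conj_mem hk hx.1 hv)
  have h5 := eq_one_of_mem_UN_of_mem_B R h4 (RGD.U_le_B h3)
  have h6 : v = k⁻¹ * (k * v * k⁻¹) * k := by group
  rw [h6, h5]; group

/-- Borel–Tits with weakly closed radicals. -/
def BTW (p : ℕ) (G : Type*) [Group G] : Prop :=
  ∀ K : Subgroup G, IsPGroup p K → K ≠ ⊥ → ∃ V' : Subgroup G, IsPGroup p V' ∧ K ≤ V' ∧
    Subgroup.normalizer (K : Set G) ≤ Subgroup.normalizer (V' : Set G) ∧
    ∀ V : Sylow p G, V' ≤ V → Subgroup.normalizer ((V : Subgroup G) : Set G) ≤ Subgroup.normalizer (V' : Set G)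

theorem btw_of_rgd (R : RGD cs h p T n X) [Finite W] [Finite Y] [Fact p.Prime]
    (hBT : KFacts.RgdCharP.BT cs h p T X) (hGG : GG cs h T X = ⊤) : BTW p Y := by
  intro K hK hK1
  obtain ⟨g, J, hJ, h1, h2⟩ := hBT K hK hK1
  have hP : PJ cs h T X J = Subgroup.normalizer (VJ cs h X J : Set Y) := by
    apply le_antisymm (PJ_le_normalizer_VJ R J)
    have h3 := normalizer_VJ R J
    rw [hGG, inf_top_eq] at h3
    exact h3.le
  have hU : RGD.B cs h T X = Subgroup.normalizer (RGD.Sup X (RGD.Pos cs h) : Set Y) := by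
    have h3 := KFacts.RgdEx.normalizer_U R
    rw [hGG, inf_top_eq] at h3
    exact h3.symm
  have hN : Subgroup.normalizer (cj g (VJ cs h X J) : Set Y) = cj g (PJ cs h T X J) := by
    rw [hP, ← normalizer_cj]
  refine ⟨cj g (VJ cs h X J), (KFacts.RgdCharP.isPGroup_VJ R J).map _, h1, by rw [hN]; exact h2, ?_⟩
  intro V hV
  have hi := KFacts.RgdSyl.not_dvd_relIndex R
  rw [hGG, Subgroup.relIndex_top_right] at hi
  obtain ⟨a, ha⟩ := MulAction.exists_smul_eq Y (R.isPGroup_Upos.toSylow hi) V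
  have ha' : (V : Subgroup Y) = cj a (RGD.Sup X (RGD.Pos cs h)) := by
    rw [← ha]
    rfl
  have h3 : cj (a⁻¹ * g) (VJ cs h X J) ≤ RGD.Sup X (RGD.Pos cs h) := by
    rw [ha'] at hV
    intro y hy
    have h4 : a * y * a⁻¹ ∈ cj g (VJ cs h X J) := by
      rw [mem_cj] at hy ⊢
      have : g⁻¹ * (a * y * a⁻¹) * g = (a⁻¹ * g)⁻¹ * y * (a⁻¹ * g) := by group
      rwa [this]
    have h5 := mem_cj.1 (hV h4)
    have h6 : a⁻¹ * (a * y * a⁻¹) * a = y := by group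
    rwa [h6] at h5
  have h4 : a⁻¹ * g ∈ PJ cs h T X J := mem_PJ_of_cj_le R (by rw [hGG]; trivial) h3
  rw [hN, ha', normalizer_cj, ← hU]
  intro y hy
  rw [mem_cj] at hy ⊢
  have h5 : g⁻¹ * y * g = (a⁻¹ * g)⁻¹ * (a⁻¹ * y * a) * (a⁻¹ * g) := by group
  rw [h5]
  exact mul_mem (mul_mem (inv_mem h4) (B_le_PJ hy)) h4

theorem btw_of_hasFilt {G : Type*} [Group G] [Finite G] [IsSimpleGroup G] {p : ℕ} [Fact p.Prime]
    (hG : KFacts.RgdFilt.HasFilt p G) (hc : ∃ a b : G, a * b ≠ b * a) : BTW p G := by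
  obtain ⟨l, M, A, h, T, n, X, R, hW, hBT, hGG, hN, hconn, hX, hl⟩ := hG.data hc
  exact btw_of_rgd R hBT hGG

end Cfsg.Agent.H537.RV
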