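import Cfsg.Agent.H537.RV.R1Abs
import Cfsg.Agent.H537.RV.R1Rgd
import Cfsg.Agent.H565.OddBorel
import Cfsg.Agent.H400.LieLocal
import Cfsg.Agent.H979.LieSplit

/-!
# TEAM RV, row R1: groups of Lie type in characteristic `p`, `p ∈ π`, `2 ∉ π` (helper537)

* `AbQ p G` : `N(S)/S` is abelian for the Sylow `p`-subgroups `S`; `abQ_of_lie`;
* `btw_of_lie` : `BTW p G`;
* `ownData_of_injective` : the data for the image of `S` in a group;
* `rowE_own` : `RowE π S`.
-/

set_option autoImplicit false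
set_option linter.unusedSectionVars false

namespace Cfsg.Agent.H537.RV

open Subgroup Cfsg Cfsg.Agent.H988.CPi Cfsg.Agent.H571.DExt Cfsg.Agent.H571.RV
open scoped Pointwise

/-- `N(S)/S` is abelian -/
def AbQ (p : ℕ) (G : Type*) [Group G] : Prop :=
  ∀ S : Sylow p G, ∀ a ∈ normalizer ((S : Subgroup G) : Set G), ∀ b ∈ normalizer ((S : Subgroup G) : Set G),
    a * b * a⁻¹ * b⁻¹ ∈ (S : Subgroup G)

theorem AbQ.of_one {p : ℕ} [Fact p.Prime] {G : Type*} [Group G] [Finite G] (Q : Sylow p G)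
    (h : ∀ a ∈ normalizer ((Q : Subgroup G) : Set G), ∀ b ∈ normalizer ((Q : Subgroup G) : Set G),
      a * b * a⁻¹ * b⁻¹ ∈ (Q : Subgroup G)) : AbQ p G := by
  intro S a ha b hb
  obtain ⟨k, hk⟩ := MulAction.exists_smul_eq G S Q
  rw [H565.OddBorel.mem_conj_iff hk]
  have h1 := h _ ((H565.OddBorel.mem_normalizer_conj_iff hk a).1 ha) _
    ((H565.OddBorel.mem_normalizer_conj_iff hk b).1 hb)
  have h2 : k * a * k⁻¹ * (k * b * k⁻¹) * (k * a * k⁻¹)⁻¹ * (k * b * k⁻¹)⁻¹ =
      k * (a * b * a⁻¹ * b⁻¹) * k⁻¹ := by group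
  rwa [h2] at h1

theorem abQ_of_splitAb {K : Type*} [Group K] [Finite K] {p : ℕ} [Fact p.Prime] (h : H463.LieAb.SplitAb p K) :
    AbQ p K := by
  obtain ⟨P, U, hne, h, hc⟩ := h
  obtain ⟨Q, hQ⟩ := h.isP.exists_le_sylow
  have hQU : (Q : Subgroup K) = U := H794.DefClosed.eq_of_isPGroup h Q.isPGroup' hQ
  apply AbQ.of_one Q
  rw [hQU, h.normalizer_eq]
  have hnor : (U.subgroupOf P.B).Normal := by
    constructor
    intro u hu b
    rw [Subgroup.mem_subgroupOf] at hu ⊢
    exact h.norm b b.2 u hu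
  have key : ∀ x : P.B ⧸ U.subgroupOf P.B, ∃ t : P.B, (t : K) ∈ P.B ⊓ P.N ∧
      x = (QuotientGroup.mk t : P.B ⧸ U.subgroupOf P.B) := by
    intro x
    obtain ⟨b, rfl⟩ := QuotientGroup.mk_surjective x
    obtain ⟨u, hu, t, ht, e⟩ := h.cover' b.2
    refine ⟨⟨t, ht.1⟩, ht, ?_⟩
    have h1 : b = ⟨u, h.le hu⟩ * ⟨t, ht.1⟩ := Subtype.ext e
    rw [h1, QuotientGroup.mk_mul, (QuotientGroup.eq_one_iff (⟨u, h.le hu⟩ : P.B)).2
      (Subgroup.mem_subgroupOf.2 hu), one_mul]
  intro a ha b hb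
  have h1 : (QuotientGroup.mk (⟨a, ha⟩ : P.B) : P.B ⧸ U.subgroupOf P.B) * QuotientGroup.mk (⟨b, hb⟩ : P.B) =
      QuotientGroup.mk (⟨b, hb⟩ : P.B) * QuotientGroup.mk (⟨a, ha⟩ : P.B) := by
    obtain ⟨s, hs, hs'⟩ := key (QuotientGroup.mk (⟨a, ha⟩ : P.B))
    obtain ⟨t, ht, ht'⟩ := key (QuotientGroup.mk (⟨b, hb⟩ : P.B))
    rw [hs', ht', ← QuotientGroup.mk_mul, ← QuotientGroup.mk_mul]
    congr 1
    exact Subtype.ext (hc s hs t ht)
  have h2 : (QuotientGroup.mk ((⟨a, ha⟩ : P.B) * ⟨b, hb⟩ * (⟨a, ha⟩ : P.B)⁻¹ * (⟨b, hb⟩ : P.B)⁻¹) :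
      P.B ⧸ U.subgroupOf P.B) = 1 := by
    rw [QuotientGroup.mk_mul, QuotientGroup.mk_mul, QuotientGroup.mk_mul, h1, QuotientGroup.mk_inv,
      QuotientGroup.mk_inv, mul_inv_cancel_right, mul_inv_cancel]
  have h3 := (QuotientGroup.eq_one_iff (N := U.subgroupOf P.B) _).1 h2
  exact h3

theorem abQ_of_lie {p : ℕ} [Fact p.Prime] (hp2 : p ≠ 2) {G : Type*} [Group G] [Finite G]
    (hG : IsLieTypeChar p G) : AbQ p G :=
  abQ_of_splitAb (H463.LieOdd.splitAb hp2 (H400.LieSimple.isSimple_of_lie hG) hG)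

theorem btw_of_ti {p : ℕ} [Fact p.Prime] {G : Type*} [Group G] [Finite G] (h : H794.TI p G) : BTW p G := by
  intro K hK hK1
  obtain ⟨S, hS⟩ := hK.exists_le_sylow
  obtain ⟨x, hx, hx1⟩ := K.bot_or_exists_ne_one.resolve_left hK1
  refine ⟨S, S.isPGroup', hS, fun g hg => h S x (hS hx) hx1 g (hS ((mem_normalizer_iff.1 hg x).1 hx)), ?_⟩
  intro V hV
  have h1 : (V : Subgroup G) = S := S.is_maximal' V.isPGroup' hV
  rw [h1]

theorem btw_of_lie {p : ℕ} [Fact p.Prime] (hp2 : p ≠ 2) {G : Type*} [Group G] [Finite G]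
    (hG : IsLieTypeChar p G) : BTW p G := by
  have hs : IsSimpleGroup G := H400.LieSimple.isSimple_of_lie hG
  have hc : ∃ a b : G, a * b ≠ b * a :=
    H400.LieLocal.exists_noncomm (H400.LieLocal.center_eq_bot (H979.LieSplit.hasSplit_of_isLieTypeChar Fact.out hG))
  rcases hG with h | h | h | h | h | h | h | h | h | h | h
  · exact btw_of_hasFilt (KFacts.RgdLieCharP.hasFilt_of_lie (Or.inl h)) hc
  · exact btw_of_hasFilt (KFacts.RgdLieCharP.hasFilt_of_lie (Or.inr (Or.inl h))) hc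
  · exact btw_of_hasFilt (KFacts.RgdLieCharP.hasFilt_of_lie (Or.inr (Or.inr (Or.inl h)))) hc
  · exact btw_of_hasFilt (KFacts.RgdLieCharP.hasFilt_of_lie (Or.inr (Or.inr (Or.inr (Or.inl h))))) hc
  · exact btw_of_hasFilt (KFacts.RgdLieCharP.hasFilt_of_lie (Or.inr (Or.inr (Or.inr (Or.inr (Or.inl h)))))) hc
  · exact btw_of_hasFilt (KFacts.RgdLieCharP.hasFilt_of_lie (Or.inr (Or.inr (Or.inr (Or.inr (Or.inr (Or.inl h))))))) hc
  · exact btw_of_hasFilt
      (KFacts.RgdLieCharP.hasFilt_of_lie (Or.inr (Or.inr (Or.inr (Or.inr (Or.inr (Or.inr (Or.inl h)))))))) hc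
  · exact btw_of_hasFilt
      (KFacts.RgdLieCharP.hasFilt_of_lie (Or.inr (Or.inr (Or.inr (Or.inr (Or.inr (Or.inr (Or.inr h)))))))) hc
  · exact absurd h.1 hp2
  · exact absurd h.1 hp2
  · obtain ⟨rfl, h⟩ := h
    exact btw_of_ti (H794.DefClosed.ti_ree h)

/-- Normalisers grow. -/
theorem le_of_normalizer_le {p : ℕ} [Fact p.Prime] {G : Type*} [Group G] [Finite G] {X V : Subgroup G}
    (hV : IsPGroup p V) (hXV : X ≤ V) (h : V ⊓ normalizer (X : Set G) ≤ X) : V ≤ X := by
  by_contra hne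
  have h1 : X.subgroupOf V < ⊤ := by
    rw [lt_top_iff_ne_top]
    intro h2
    exact hne (subgroupOf_eq_top.1 h2)
  have h2 : Group.IsNilpotent V := hV.isNilpotent
  obtain ⟨x, hx, hx'⟩ := SetLike.exists_of_lt (Group.normalizerCondition_of_isNilpotent (G := V) _ h1)
  apply hx'
  rw [← subgroupOf_normalizer_eq hXV, mem_subgroupOf] at hx
  rw [mem_subgroupOf]
  exact h ⟨x.2, hx⟩

/-- Transport of the data to the image of `S`. -/
theorem ownData_of_injective {p : ℕ} [Fact p.Prime] {S : Type*} [Group S] [Finite S] {G : Type*} [Group G]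
    [Finite G] (f : S →* G) (hf : Function.Injective f) (h1 : H565.OddBorel.OddLe p S) (h2 : AbQ p S)
    (h3 : BTW p S) : OwnData p f.range := by
  have hmap : ∀ K : Subgroup G, K ≤ f.range → (K.comap f).map f = K := fun K hK => map_comap_eq_self hK
  have hcard : ∀ K : Subgroup G, K ≤ f.range → Nat.card (K.comap f) = Nat.card K := by
    intro K hK
    conv_rhs => rw [← hmap K hK]
    exact (card_map_of_injective hf).symm
  have hidx : ∀ K : Subgroup G, (K.comap f).index = K.relIndex f.range := fun K => index_comap K f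
  have hP : ∀ K : Subgroup G, IsPGroup p K → IsPGroup p (K.comap f) := fun K hK => hK.comap_of_injective f hf
  have hnor : ∀ K : Subgroup G, K ≤ f.range →
      (normalizer (K : Set G)).comap f = normalizer ((K.comap f : Subgroup S) : Set S) :=
    fun K hK => comap_normalizer_eq_of_le_range hK
  refine ⟨?_, ?_, ?_⟩
  · intro V H hV hVH hH hi hodd x hx
    have h4 := h1 ((hP V hV).toSylow (by rw [hidx]; exact hi)) (H.comap f) (comap_mono hVH)
      (by rw [hcard H hH]; exact hodd)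
    obtain ⟨s, rfl⟩ := hH hx
    have h5 : s ∈ (normalizer (V : Set G)).comap f := by
      rw [hnor V (hVH.trans hH)]
      exact h4 hx
    exact h5
  · intro V hV hVN hi a ha b hb
    obtain ⟨s, rfl⟩ := ha.1
    obtain ⟨t, rfl⟩ := hb.1
    have h5 : s ∈ (normalizer (V : Set G)).comap f := ha.2
    have h6 : t ∈ (normalizer (V : Set G)).comap f := hb.2
    rw [hnor V hVN] at h5 h6
    have h7 := h2 ((hP V hV).toSylow (by rw [hidx]; exact hi)) s h5 t h6
    have h8 : f (s * t * s⁻¹ * t⁻¹) ∈ V := h7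
    rwa [map_mul, map_mul, map_mul, map_inv, map_inv] at h8
  · intro X hX hXN hrad V hV hVN hi hXV
    by_cases hX1 : X = ⊥
    · subst hX1
      have h4 : normalizer ((⊥ : Subgroup G) : Set G) = ⊤ := normalizer_eq_top _
      rw [h4]
      exact le_top
    have hX1' : X.comap f ≠ ⊥ := by
      intro h4
      apply hX1
      rw [← hmap X hXN, h4, Subgroup.map_bot]
    obtain ⟨V', hV'p, hXV', hN', hV'⟩ := h3 _ (hP X hX) hX1'
    -- `V' = X`
    have h5 : V' ≤ X.comap f := by
      refine le_of_normalizer_le hV'p hXV' ?_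
      set D := V' ⊓ normalizer ((X.comap f : Subgroup S) : Set S) with hD
      have h6 : D.map f ≤ X := by
        refine hrad _ ((hV'p.to_le inf_le_left).map f) ?_ ?_
        · rintro _ ⟨d, hd, rfl⟩
          refine ⟨⟨d, rfl⟩, ?_⟩
          have h7 : d ∈ (normalizer (X : Set G)).comap f := by
            rw [hnor X hXN]
            exact hd.2
          exact h7
        · rintro _ ⟨⟨s, rfl⟩, hs⟩
          have h7 : s ∈ (normalizer (X : Set G)).comap f := hs
          rw [hnor X hXN] at h7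
          have h8 : s ∈ normalizer (D : Set S) := by
            rw [mem_norm_iff, hD, smul_inf', mem_norm_iff.mp (hN' h7), mem_norm_iff.mp (le_normalizer h7)]
          rw [mem_normalizer_iff_map_conj_eq] at h8 ⊢
          have h9 : (D.map f).map (MulAut.conj (f s)).toMonoidHom = (D.map (MulAut.conj s).toMonoidHom).map f := by
            rw [map_map, map_map]
            congr 1
            ext x
            simp
          exact h9.trans (congrArg (Subgroup.map f) h8)
      intro d hd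
      exact h6 ⟨d, hd, rfl⟩
    have h6 : V' = X.comap f := le_antisymm h5 hXV'
    rintro _ ⟨⟨s, rfl⟩, hs⟩
    have h7 : s ∈ (normalizer (V : Set G)).comap f := hs
    rw [hnor V hVN] at h7
    have h8 := hV' ((hP V hV).toSylow (by rw [hidx]; exact hi)) (by rw [h6]; exact comap_mono hXV) h7
    rw [h6, ← hnor X hXN] at h8
    exact h8

/-- **Row R1**: groups of Lie type in characteristic `p`, `p ∈ π`, `2 ∉ π`. -/
theorem rowE_own {π : Set ℕ} (h2 : 2 ∉ π) {p : ℕ} (hp : p.Prime) (hpπ : p ∈ π) {S : Type*} [Group S] [Finite S]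
    (hS : IsLieTypeChar p S) : RowE π S := by
  intro hD P₀ hP₀
  have := Fact.mk hp
  have hp2 : p ≠ 2 := by
    rintro rfl
    exact h2 hpπ
  have hsim : IsSimpleGroup S := H400.LieSimple.isSimple_of_lie hS
  have hc := H400.LieLocal.center_eq_bot (H979.LieSplit.hasSplit_of_isLieTypeChar hp hS)
  set f : S →* MulAut S := MulAut.conj with hf'
  have hf : Function.Injective f := by
    rw [injective_iff_map_eq_one]
    intro s hs
    have h3 : s ∈ center S := by
      rw [mem_center_iff]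
      intro g
      have h4 : s * g * s⁻¹ = g := by
        have := DFunLike.congr_fun hs g
        rwa [MulAut.conj_apply, MulAut.one_apply] at this
      calc g * s = s * g * s⁻¹ * s := by rw [h4]
        _ = s * g := by group
    rw [hc] at h3
    exact h3
  have O : OwnData p (inn S) := ownData_of_injective f hf (H565.OddBorel.oddLe_of_lie hp2 hS) (abQ_of_lie hp2 hS)
    (btw_of_lie hp2 hS)
  obtain ⟨P, hP₀P, hP⟩ := Finite.exists_le_maximal (p := IsPiSubgroup π) (a := P₀) hP₀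
  have hD' : ∀ K ≤ inn S, PiN π (Nat.card K) → ∃ H ≤ inn S, K ≤ H ∧ PiN π (Nat.card H) ∧
      PiN' π (H.relIndex (inn S)) := by
    intro K hK hKπ
    have h3 : Nat.card (K.comap f) = Nat.card K := by
      conv_rhs => rw [← map_comap_eq_self (f := f) (H := K) hK]
      exact (card_map_of_injective hf).symm
    obtain ⟨H, hH, hKH⟩ := Dom.pi_le hD (K.comap f) (by rw [h3]; exact hKπ)
    refine ⟨H.map f, map_le_range f H, ?_, ?_, ?_⟩
    · rw [← map_comap_eq_self (f := f) (H := K) hK]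
      exact map_mono hKH
    · rw [card_map_of_injective hf]
      exact hH.1
    · have h4 : (H.map f).relIndex (inn S) = H.index := by
        have h5 := index_comap (H.map f) f
        rw [comap_map_eq_self_of_injective hf] at h5
        exact h5.symm
      rw [h4]
      exact hH.2
  obtain ⟨H, hHN, hHπ, hHi, hPH⟩ := main O hpπ h2 hD' hP
  have h3 : Nat.card (H.comap f) = Nat.card H := by
    conv_rhs => rw [← map_comap_eq_self (f := f) (H := H) hHN]
    exact (card_map_of_injective hf).symm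
  refine ⟨H.comap f, ⟨?_, ?_⟩, ?_⟩
  · have h4 : PiN π (Nat.card (H.comap f)) := by rw [h3]; exact hHπ
    exact h4
  · have h4 : PiN' π (H.comap f).index := by rw [index_comap]; exact hHi
    exact h4
  · intro α hα
    have h4 := hPH (hP₀P hα)
    rw [mem_stab]
    have h5 : ∀ s : S, f (α s) = α * f s * α⁻¹ := by
      intro s
      ext x
      show α s * x * (α s)⁻¹ = α (s * α⁻¹ x * s⁻¹)
      rw [map_mul, map_mul, map_inv, MulAut.apply_inv_self]
    ext x
    constructor
    · rintro ⟨s, hs, rfl⟩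
      show f (α s) ∈ H
      rw [h5]
      exact (mem_normalizer_iff.1 h4 _).1 hs
    · intro hx
      refine ⟨α⁻¹ x, ?_, MulAut.apply_inv_self _ _ _⟩
      show f (α⁻¹ x) ∈ H
      rw [mem_normalizer_iff.1 h4, ← h5, MulAut.apply_inv_self]
      exact hx

end Cfsg.Agent.H537.RV
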